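import Cfsg.Agent.H0.TC
set_option maxRecDepth 100000
namespace H0.TCK1d
open H0
noncomputable def r0 : TC.WTr := (.node (.node (.node (.node (.node (.node (.leaf [0] 0 0 false) (.leaf [1, 5, 1] 14 1 false)) (.leaf [4, 2, 4] 16 0 false)) (.node (.leaf [3, 1, 3] 12 0 false) (.leaf [4] 4 0 false))) (.node (.node (.leaf [5, 0, 5] 10 0 false) (.leaf [1, 3, 1] 12 1 false)) (.node (.leaf [2] 2 0 false) (.leaf [5, 4, 5] 20 0 false)))) (.node (.node (.node (.node (.leaf [2, 0, 2] 7 0 false) (.leaf [3, 5, 3] 19 1 false)) (.leaf [3] 3 0 false)) (.node (.leaf [4, 1, 4] 13 0 false) (.leaf [1, 4, 1] 13 1 false))) (.node (.node (.leaf [1] 1 0 false) (.leaf [5, 3, 5] 19 0 false)) (.node (.leaf [3, 2, 3, 2, 3] 15 0 false) (.leaf [5] 5 0 false))))) (.node (.node (.node (.node (.node (.leaf [1, 0, 1, 0, 1] 6 0 false) (.leaf [2, 5, 2, 5, 2] 17 1 false)) (.leaf [1, 2, 1, 2, 1] 11 1 false)) (.node (.leaf [5, 1, 5] 14 0 false) (.leaf [0, 4,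 0] 9 1 false))) (.node (.node (.leaf [4, 0, 4] 9 0 false) (.leaf [4, 3, 4, 3, 4] 18 0 false)) (.node (.leaf [0, 2, 0] 7 1 false) (.leaf [3, 4, 3, 4, 3] 18 1 false)))) (.node (.node (.node (.node (.leaf [3, 0, 3] 8 0 false) (.leaf [4, 5, 4] 20 1 false)) (.leaf [0, 3, 0] 8 1 false)) (.node (.leaf [0, 1, 0, 1, 0] 6 1 false) (.leaf [2, 4, 2] 16 1 false))) (.node (.node (.leaf [2, 1, 2, 1, 2] 11 0 false) (.leaf [2, 3, 2, 3, 2] 15 1 false)) (.node (.leaf [5, 2, 5, 2, 5] 17 0 false) (.leaf [0, 5, 0] 10 1 false))))))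
noncomputable def tS : Tr := (.leaf (nat_lit 0x3ff795ae8d9e58021bffdc972992725e47ffff6b6196b976721e3ffd597f5916499071fff4f1e15d5756b1a9ffd76781745d13c6abff481a9561585cdc6ffd5a70d5747d595c7ff4f58c4ed035598dffd3a699024f13a4e7ff4796f3912046d55ffd1d5b51f4751d393ff4058947101404c8ffd004d8c740139403ff3fd3440cff31d02ffce3540fe38cab39bff388fc394aa390e2ffcc6460e1238c831bff234c4314c7314c5ffc70380a72aca92a7ff2a8702a0a82a0a8ffc54230c42308c233ff2388d1508b22c8bffc711bc700e06f1bfff14c5314c5407053ffc370dc370dc38003ff00000000000001c))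
noncomputable def tJ : Tr := (.leaf (nat_lit 0x405a34453040922320330c125084403450944304100225915094433020035a0220035a103045702330458020001101580010115830459203102205901020259020330c0220305c0250b4403450a04034400a3445509403343000922320030812102220710011110700666660))
noncomputable def tQ : Tr := (.leaf (nat_lit 0x0))
noncomputable def tR : TC.WTr := r0
def hl : List ℕ := [1, 2, 3, 4, 5]
def B : List (List ℕ) := [[0, 0], [1, 1], [2, 2], [3, 3], [4, 4], [5, 5], [0, 1, 0, 1, 0, 1], [0, 2, 0, 2], [0, 3, 0, 3], [0, 4, 0, 4], [0, 5, 0, 5], [1, 2, 1, 2, 1, 2], [1, 3, 1, 3], [1, 4, 1, 4], [1, 5, 1, 5], [2, 3, 2, 3, 2, 3], [2, 4, 2, 4], [2, 5, 2, 5, 2, 5], [3, 4, 3, 4, 3, 4], [3, 5, 3, 5], [4, 5, 4, 5]]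
def subs : List (List ℕ) := [[1], [2], [3], [4], [5]]
def ex : List (List ℕ) := []
def inv (x : ℕ) : ℕ := [0, 1, 2, 3, 4, 5].getD x 0
noncomputable def rS : ℕ → ℕ := rowOf tS (nat_lit 8) (nat_lit 255) (nat_lit 70) (nat_lit 1180591620717411303423)
noncomputable def rJ : ℕ → ℕ := rowOf tJ (nat_lit 8) (nat_lit 255) (nat_lit 32) (nat_lit 4294967295)
noncomputable def C : TC.Cfg where
  S := look rS (nat_lit 10) (nat_lit 1023)
  J := look rJ (nat_lit 4) (nat_lit 15)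
  Q := lookQ tQ (nat_lit 8) (nat_lit 1) (nat_lit 1)
  R := tR.get
  hl := fun x => hl.contains x
  n := (nat_lit 27)
  M := (nat_lit 27)
  top := (nat_lit 567)
  nl := (nat_lit 6)
  need := (nat_lit 6)
  nr := (nat_lit 6)
theorem k0 : TC.chkRange C 0 1 = true := by decide +kernel
theorem rows0 : ∀ c < (0 + 1) * 64, c < C.M → TC.chkRow C c = true :=
  TC.rows_step (TC.rows_zero C) k0
theorem main {G : Type*} [Group G] (g : ℕ → G) (hB : ∀ r ∈ B, ev g r = 1) (H : Subgroup G)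
    (hH : ∀ w ∈ subs, ev g w ∈ H) :
    H.relIndex (Subgroup.closure (g '' {x | x < 6})) ≠ 0 ∧
      H.relIndex (Subgroup.closure (g '' {x | x < 6})) ≤ 27 :=
  TC.index_le C B subs ex inv hl tR.hint rfl (by decide +kernel) (by decide +kernel)
    (TC.rows_done rows0 (by decide +kernel)) g hB H hH
end H0.TCK1d
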